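import Cfsg.Agent.H680.IF.EngA
import Cfsg.Agent.KFacts.RgdFilt
import Cfsg.Agent.KFacts.RgdEx
import Cfsg.Agent.Nodes.NormX
import Cfsg.Agent.KFacts.RgdLieCharP
import Cfsg.Agent.Lib.Cores

/-!
# S5719: a `Γ`-invariant `p`-subgroup of `A` in characteristic `p` (helper22)

`exists_normalizer_le` : `IF A Γ`, `T` with a filtered root group datum of characteristic `p`, `1 ≠ R ≤ A` a
`Γ`-invariant `p`-group ⇒ `N_T(S) ≤ A` for a Sylow `p`-subgroup `S` of `T` (no condition on `Γ`);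
`no_p_of_filt` : … and `|A|` is odd, `N_T(S)` of even order ⇒ `False`.
-/

set_option autoImplicit false
set_option linter.unusedSectionVars false

namespace Cfsg.Agent.H22.IFO

open Subgroup CoxeterSystem Cfsg.Agent.H209.Fxy Cfsg.Agent.ChevalleyStructure.CoxeterGeom Cfsg.Agent.Tits.Roots
  Cfsg.Agent.Tits.Core Cfsg.Agent.Nodes.Reps Cfsg.Agent.Nodes.BNOf Cfsg.Agent.Nodes.StabComb Cfsg.Agent.Nodes.Bruhat
  Cfsg.Agent.Nodes.LeviDec Cfsg.Agent.KFacts.RgdPar Cfsg.Agent.KFacts.RgdSL Cfsg.Agent.KFacts.RgdVJ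
  Cfsg.Agent.KFacts.RgdCharP Cfsg.Agent.KFacts.RgdFilt

section Core

variable {T : Type*} [Group T]

/-- `O_p(A)` as a subgroup of `T` -/
def Op (p : ℕ) (A : Subgroup T) : Subgroup T := (Cfsg.pCore p A).map A.subtype

theorem Op_le {p : ℕ} {A : Subgroup T} : Op p A ≤ A := by
  rintro _ ⟨x, -, rfl⟩
  exact x.2

theorem isPGroup_Op {p : ℕ} {A : Subgroup T} : IsPGroup p (Op p A) :=
  (Lib.Cores.pCore_isPGroup (G := A) p).map _

theorem le_Op {p : ℕ} {A Y : Subgroup T} (hY : Y ≤ A) (hp : IsPGroup p Y)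
    (hn : ∀ a ∈ A, ∀ y ∈ Y, a * y * a⁻¹ ∈ Y) : Y ≤ Op p A := by
  have h1 : (Y.subgroupOf A).Normal := by
    refine ⟨fun y hy a => ?_⟩
    rw [mem_subgroupOf] at hy ⊢
    exact hn a a.2 y hy
  have h2 : IsPGroup p (Y.subgroupOf A) := hp.comap_subtype
  have h3 := Subgroup.map_mono (f := A.subtype) (Lib.Cores.le_pCore h1 h2)
  rwa [Subgroup.subgroupOf_map_subtype, inf_eq_left.2 hY] at h3

theorem Op_normal {p : ℕ} {A : Subgroup T} {a : T} (ha : a ∈ A) {y : T} (hy : y ∈ Op p A) :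
    a * y * a⁻¹ ∈ Op p A := by
  obtain ⟨y, hy, rfl⟩ := hy
  exact ⟨⟨a, ha⟩ * y * ⟨a, ha⟩⁻¹, (Lib.Cores.pCore_normal (G := A) p).conj_mem y hy _, rfl⟩

theorem map_Op_le {p : ℕ} {A : Subgroup T} {σ : MulAut T} (hσ : ∀ a : T, σ a ∈ A ↔ a ∈ A) {y : T}
    (hy : y ∈ Op p A) : σ y ∈ Op p A := by
  have h1 : (Op p A).map σ.toMonoidHom ≤ Op p A := by
    apply le_Op
    · rintro _ ⟨x, hx, rfl⟩
      exact (hσ x).2 (Op_le hx)
    · exact isPGroup_Op.map _
    · rintro a ha _ ⟨x, hx, rfl⟩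
      have h2 : σ⁻¹ a ∈ A := by
        rw [← hσ, MulAut.apply_inv_self]
        exact ha
      refine ⟨σ⁻¹ a * x * (σ⁻¹ a)⁻¹, Op_normal h2 hx, ?_⟩
      change σ (σ⁻¹ a * x * (σ⁻¹ a)⁻¹) = a * σ x * a⁻¹
      rw [map_mul, map_mul, map_inv, MulAut.apply_inv_self]
  exact h1 ⟨y, hy, rfl⟩

/-- a `p`-subgroup `V ≥ Q` with `V ∩ N(Q) ≤ Q` is `Q` -/
theorem eq_of_inf_normalizer_le [Finite T] {p : ℕ} [Fact p.Prime] {Q V : Subgroup T} (hQV : Q ≤ V)
    (hV : IsPGroup p V) (h1 : V ⊓ normalizer (Q : Set T) ≤ Q) : V = Q := by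
  by_contra hne
  have hnil : Group.IsNilpotent V := hV.isNilpotent
  have h2 : Q.subgroupOf V < ⊤ := by
    rw [lt_top_iff_ne_top]
    intro h3
    exact hne (le_antisymm (subgroupOf_eq_top.1 h3) hQV)
  have h3 := Group.normalizerCondition_of_isNilpotent (G := V) _ h2
  rw [← subgroupOf_normalizer_eq hQV] at h3
  obtain ⟨⟨x, hxV⟩, hx1, hx2⟩ := SetLike.exists_of_lt h3
  rw [mem_subgroupOf] at hx1 hx2
  exact hx2 (h1 ⟨hxV, hx1⟩)

theorem NotJ_empty' {I W : Type*} [Fintype I] [DecidableEq I] [Group W] {M : CoxeterMatrix I} {cs : CoxeterSystem M W}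
    {A : I → I → ℤ} {h : IsCartan M A} : NotJ cs h (∅ : Set I) = RGD.Pos cs h := by
  ext x
  constructor
  · rintro ⟨h1, h2, -⟩
    exact ⟨h1, h2⟩
  · rintro ⟨h1, h2⟩
    refine ⟨h1, h2, ?_⟩
    by_contra hcon
    push Not at hcon
    exact h1.ne_zero (le_antisymm (fun k => hcon k (Set.notMem_empty k)) h2)

end Core

variable {T : Type*} [Group T] [Finite T] [IsSimpleGroup T] {A : Subgroup T} {Γ : Subgroup (MulAut T)}

/-- **Borel–Tits:** `A` contains the normaliser of a Sylow `p`-subgroup. -/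
theorem exists_normalizer_le (h : IF A Γ) {p : ℕ} [Fact p.Prime] (hF : HasFilt p T) {R : Subgroup T} (hRA : R ≤ A)
    (hR : R ≠ ⊥) (hRp : IsPGroup p R) (hinv : ∀ σ ∈ Γ, ∀ x ∈ R, σ x ∈ R) :
    ∃ S : Sylow p T, normalizer ((S : Subgroup T) : Set T) ≤ A := by
  set K := Op p A with hK
  have hRK : R ≤ K := le_Op hRA hRp fun a ha y hy => hinv (MulAut.conj a) ((h.conj a).2 ha) y hy
  have hK1 : K ≠ ⊥ := by
    intro h1
    rw [h1, le_bot_iff] at hRK
    exact hR hRK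
  have hKinv : ∀ σ ∈ Γ, ∀ k ∈ K, σ k ∈ K := fun σ hσ k hk => map_Op_le (h.inv σ hσ) hk
  have hN : normalizer (K : Set T) = A := by
    apply le_antisymm
    · intro x hx
      exact Cfsg.Agent.H680.Fxy.IF.norm h Op_le hKinv hK1 fun k hk => (mem_normalizer_iff.1 hx k).1 hk
    · intro a ha
      rw [mem_normalizer_iff]
      intro k
      refine ⟨fun hk => Op_normal ha hk, fun hk => ?_⟩
      have h1 := Op_normal (A.inv_mem ha) hk
      have e : a⁻¹ * (a * k * a⁻¹) * a⁻¹⁻¹ = k := by group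
      rwa [e] at h1
  obtain ⟨l, M, Am, hc, T0, n, X, Rg, F, hW, hX, hFi⟩ := hF
  obtain ⟨g, J, hJ, h1, h2⟩ := borel_tits_of_filt hFi hX (isPGroup_Op : IsPGroup p K) hK1
  have hV : IsPGroup p (cj g (VJ M.toCoxeterSystem hc X J)) := by
    unfold cj
    exact (KFacts.RgdCharP.isPGroup_VJ Rg J).map _
  have h3 : cj g (PJ M.toCoxeterSystem hc T0 X J) ≤
      normalizer ((cj g (VJ M.toCoxeterSystem hc X J) : Subgroup T) : Set T) := by
    rw [Nodes.NormX.normalizer_cj]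
    exact cj_mono g (PJ_le_normalizer_VJ Rg J)
  have h4 : cj g (VJ M.toCoxeterSystem hc X J) = K := by
    refine eq_of_inf_normalizer_le h1 hV ?_
    rw [hN]
    refine le_Op inf_le_right (hV.to_le inf_le_left) fun a ha y hy => ?_
    rw [← hN] at ha
    exact ⟨(mem_normalizer_iff.1 (h3 (h2 ha)) y).1 hy.1, by
      rw [hN] at ha; exact A.mul_mem (A.mul_mem ha hy.2) (A.inv_mem ha)⟩
  have hGG := GG_eq_top (cs := M.toCoxeterSystem) (h := hc) (T := T0) hX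
  have hNU : normalizer ((RGD.Sup X (RGD.Pos M.toCoxeterSystem hc) : Subgroup T) : Set T) =
      RGD.B M.toCoxeterSystem hc T0 X := by
    have h5 := KFacts.RgdEx.normalizer_U Rg
    rwa [hGG, inf_top_eq] at h5
  -- a Sylow subgroup
  have hp1 : IsPGroup p (RGD.Sup X (RGD.Pos M.toCoxeterSystem hc)) := by
    have h5 := KFacts.RgdCharP.isPGroup_VJ Rg (∅ : Set (Fin l))
    unfold VJ at h5
    rwa [NotJ_empty'] at h5
  obtain ⟨S, hS⟩ := hp1.exists_le_sylow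
  have hSU : (S : Subgroup T) = RGD.Sup X (RGD.Pos M.toCoxeterSystem hc) :=
    KFacts.RgdEx.eq_U Rg hS (by rw [hGG]; exact le_top) S.isPGroup'
  refine ⟨g • S, ?_⟩
  have h6 : ((g • S : Sylow p T) : Subgroup T) = cj g (RGD.Sup X (RGD.Pos M.toCoxeterSystem hc)) := by
    rw [← hSU]
    rfl
  have h7 : K = K := rfl
  rw [h6, Nodes.NormX.normalizer_cj, hNU]
  refine (cj_mono g (B_le_PJ (J := J))).trans (h3.trans ?_)
  rw [h4, hN]

end Cfsg.Agent.H22.IFO
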