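import Cfsg.Agent.ClassicalGeometry.OrthAutSylow
import Cfsg.Agent.ClassicalGeometry.OrthAut2b

/-!
# S5719, orthogonal groups: an involution normalising a Sylow `p`-subgroup, `p` odd the characteristic (helper22)

`exists_inv` : `t = -1` on two orthogonal hyperbolic planes, `1` on the complement, `t ∈ E Q`;
`exists_sylow_inv` : a Sylow `p`-subgroup of `P Q` normalised by an element of order `2`.
-/

set_option autoImplicit false
set_option linter.unusedSectionVars false

namespace Cfsg.Agent.H22.IFO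

open QuadraticMap Cfsg.Agent.LieClassical.OrthCore Cfsg.Agent.LieClassical.OrthTrans
  Cfsg.Agent.ClassicalGeometry.OrthAut1 Cfsg.Agent.ClassicalGeometry.OrthAutBasic Cfsg.Agent.ClassicalGeometry.OrthAutRoot
  Cfsg.Agent.ClassicalGeometry.OrthAutSylow

variable {F V : Type*} [Field F] [AddCommGroup V] [Module F V] {Q : QuadraticForm F V}

/-- `-1` on the planes `⟨x, y⟩`, `⟨u, v⟩`, `1` on the orthogonal complement -/
theorem exists_inv (hG : Good Q) {x y u v : V} (h : Hyp Q x y) (h' : Hyp Q u v) (hxu : polar Q x u = 0)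
    (hxv : polar Q x v = 0) (hyu : polar Q y u = 0) (hyv : polar Q y v = 0) :
    ∃ t ∈ E Q, ∀ w, t w = w - (2 * polar Q y w) • x - (2 * polar Q x w) • y - (2 * polar Q v w) • u
      - (2 * polar Q u w) • v := by
  have e1 : Q (x + y) = 1 := by rw [Q_add, h.left, h.right, h.pair]; ring
  have e2 : Q (x - y) = -1 := by
    rw [sub_eq_add_neg, Q_add, QuadraticMap.map_neg, h.left, h.right, polar_neg_right, h.pair]; ring
  have e3 : Q (u + v) = 1 := by rw [Q_add, h'.left, h'.right, h'.pair]; ring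
  have e4 : Q (u - v) = -1 := by
    rw [sub_eq_add_neg, Q_add, QuadraticMap.map_neg, h'.left, h'.right, polar_neg_right, h'.pair]; ring
  have n1 : Q (x + y) ≠ 0 := by rw [e1]; exact one_ne_zero
  have n2 : Q (x - y) ≠ 0 := by rw [e2]; exact neg_ne_zero.2 one_ne_zero
  have n3 : Q (u + v) ≠ 0 := by rw [e3]; exact one_ne_zero
  have n4 : Q (u - v) ≠ 0 := by rw [e4]; exact neg_ne_zero.2 one_ne_zero
  refine ⟨(refl Q (u + v) n3 * refl Q (x + y) n1) * (refl Q (u - v) n4 * refl Q (x - y) n2),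
    E_mul (hG.refl_mul_refl_mem n1 n3 (by rw [e1, e3])) (hG.refl_mul_refl_mem n2 n4 (by rw [e2, e4])), ?_⟩
  intro w
  change refl Q (u + v) n3 (refl Q (x + y) n1 (refl Q (u - v) n4 (refl Q (x - y) n2 w))) = _
  simp only [refl_apply, e1, e2, e3, e4, polar_sub_right, polar_add_left, polar_sub_left, polar_add_right,
    polar_smul_right, h.polar_left, h.polar_right, h'.polar_left, h'.polar_right, h.pair, h.pair', h'.pair,
    h'.pair', hxu, hxv, hyu, hyv, polar_zero_of_comm hxu, polar_zero_of_comm hxv, polar_zero_of_comm hyu,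
    polar_zero_of_comm hyv, smul_eq_mul, inv_one, inv_neg]
  match_scalars <;> ring

/-- a Sylow `p`-subgroup of `P Q` normalised by an involution -/
theorem exists_sylow_inv [Finite F] (hB : Big Q) (h2 : (2 : F) ≠ 0) {p : ℕ} [hp : Fact p.Prime] [CharP F p] :
    ∃ (S : Sylow p (P Q)) (t : P Q), t ∈ Subgroup.normalizer ((S : Subgroup (P Q)) : Set (P Q)) ∧ orderOf t = 2 := by
  have hG := hB.good
  have hfd : FiniteDimensional F V := Module.finite_of_finrank_pos (by have := hB.dim; omega)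
  have hfin : Finite V := Module.finite_of_finite F
  have hfinE : Finite (V ≃ₗ[F] V) := Finite.of_injective (fun g => (g : V → V)) DFunLike.coe_injective
  obtain ⟨x, y, h⟩ := hG.exists_hyp
  obtain ⟨u, v, h', hxu, hxv, hyu, hyv⟩ := hG.exists_hyp2 h
  have hl : Ln Q x u := by
    refine ⟨h.left, h'.left, hxu, h.left_ne, ?_⟩
    rintro c rfl
    have h3 := h'.pair
    rw [polar_smul_left, hxv, smul_zero] at h3
    exact zero_ne_one h3
  obtain ⟨P0, hP1, hP2, -, -⟩ := exists_sylow hB hl p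
  obtain ⟨t, htE, ht⟩ := exists_inv hG h h' hxu hxv hyu hyv
  have tx : t x = -x := by
    rw [ht, h.pair', h.polar_left, polar_zero_of_comm hxv, polar_zero_of_comm hxu]
    module
  have tu : t u = -u := by
    rw [ht, hyu, hxu, h'.pair', h'.polar_left]
    module
  have ty : t y = -y := by
    rw [ht, h.polar_right, h.pair, polar_zero_of_comm hyv, polar_zero_of_comm hyu]
    module
  have tv : t v = -v := by
    rw [ht, hyv, hxv, h'.polar_right, h'.pair]
    module
  have tt : ∀ w, t (t w) = w := by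
    intro w
    rw [ht w]
    simp only [map_sub, map_smul, tx, ty, tu, tv]
    rw [ht w]
    module
  -- the plane `W = ⟨x, u⟩`
  set W : Submodule F V := Submodule.span F {x, u} with hW
  have hmW : ∀ w, w ∈ W ↔ ∃ a b : F, a • x + b • u = w := fun w => Submodule.mem_span_pair
  have tW : ∀ w ∈ W, t w = -w := by
    intro w hw
    obtain ⟨a, b, rfl⟩ := (hmW w).1 hw
    rw [map_add, map_smul, map_smul, tx, tu]
    module
  have pW : ∀ g ∈ P0, ∀ w ∈ W, (g : V ≃ₗ[F] V) w ∈ W := by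
    intro g hg w hw
    obtain ⟨a, b, rfl⟩ := (hmW w).1 hw
    obtain ⟨c, hc⟩ := hP2 g hg
    rw [map_add, map_smul, map_smul, hP1 g hg, hc, hmW]
    exact ⟨a + b * c, b, by module⟩
  have pWm : ∀ g ∈ P0, (g : P Q) ∈ stab hG W := fun g hg => mem_stab_of_map_le hG (pW g hg)
  have pWs : ∀ g ∈ P0, ∀ w, (∀ z ∈ W, polar Q z w = 0) → ∀ z ∈ W, polar Q z ((g : V ≃ₗ[F] V) w) = 0 := by
    intro g hg w hw z hz
    have h3 := pW g⁻¹ (P0.inv_mem hg) z hz
    have h4 := hw _ h3
    rw [← polar_map (E_le_O g.2)] at h4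
    have h5 : (g : V ≃ₗ[F] V) ((((g⁻¹ : ↥(E Q))) : V ≃ₗ[F] V) z) = z :=
      LinearEquiv.apply_symm_apply (g : V ≃ₗ[F] V) z
    rwa [h5] at h4
  have tperp : ∀ w, (∀ z ∈ W, polar Q z w = 0) → t w - w ∈ W := by
    intro w hw
    have hxw : polar Q x w = 0 := hw x ((hmW x).2 ⟨1, 0, by module⟩)
    have huw : polar Q u w = 0 := hw u ((hmW u).2 ⟨0, 1, by module⟩)
    rw [ht, hxw, huw, hmW]
    exact ⟨-(2 * polar Q y w), -(2 * polar Q v w), by module⟩
  have hWs : ∀ w ∈ W, ∀ z ∈ W, polar Q z w = 0 := by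
    intro w hw z hz
    obtain ⟨a, b, rfl⟩ := (hmW w).1 hw
    obtain ⟨c, d, rfl⟩ := (hmW z).1 hz
    simp only [polar_add_left, polar_add_right, polar_smul_left, polar_smul_right, h.polar_left, h'.polar_left,
      hxu, polar_zero_of_comm hxu, smul_eq_mul]
    ring
  set t' : ↥(E Q) := ⟨t, htE⟩ with ht'
  have tinv : ∀ w, (((t'⁻¹ : ↥(E Q))) : V ≃ₗ[F] V) w = t w := by
    intro w
    have h3 : t ((((t'⁻¹ : ↥(E Q))) : V ≃ₗ[F] V) w) = w := LinearEquiv.apply_symm_apply t w
    rw [← tt ((((t'⁻¹ : ↥(E Q))) : V ≃ₗ[F] V) w), h3]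
  -- `U Q W ≤ P0`
  have hU : U Q W ≤ (P0 : Subgroup ↥(E Q)) := by
    have h3 : (P0 : Subgroup ↥(E Q)) ≤ Subgroup.normalizer (U Q W : Set ↥(E Q)) := by
      have key : ∀ g ∈ P0, ∀ z ∈ U Q W, g * z * g⁻¹ ∈ U Q W := by
        intro g hg z hz
        have h4 := ClassicalGeometry.OrthAut2.conj_mem_U (g := g) hz
        have h5 := pWm g hg
        rw [mem_stab, pact_mk] at h5
        rwa [h5] at h4
      intro g hg
      rw [Subgroup.mem_normalizer_iff]
      intro z
      refine ⟨key g hg z, fun hz => ?_⟩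
      have h4 := key g⁻¹ (P0.inv_mem hg) _ hz
      have e : g⁻¹ * (g * z * g⁻¹) * g⁻¹⁻¹ = z := by group
      rwa [e] at h4
    have h4 : IsPGroup p ((P0 : Subgroup ↥(E Q)) ⊔ U Q W : Subgroup ↥(E Q)) :=
      IsPGroup.to_sup_of_normal_right' P0.isPGroup' (isPGroup_U p W) h3
    have h5 := P0.is_maximal' h4 le_sup_left
    rw [← h5]
    exact le_sup_right
  -- `t` normalises `P0`
  have hconj : ∀ g ∈ P0, t' * g * t'⁻¹ ∈ P0 := by
    intro g hg
    have h3 : t' * g * t'⁻¹ * g⁻¹ ∈ U Q W := by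
      refine ⟨fun w hw => ?_, fun w hw => ?_⟩
      · have h4 := pW g⁻¹ (P0.inv_mem hg) w hw
        change t ((g : V ≃ₗ[F] V) ((((t'⁻¹ : ↥(E Q))) : V ≃ₗ[F] V) ((((g⁻¹ : ↥(E Q))) : V ≃ₗ[F] V) w))) = w
        rw [tinv, tW _ h4, map_neg]
        have h5 : (g : V ≃ₗ[F] V) ((((g⁻¹ : ↥(E Q))) : V ≃ₗ[F] V) w) = w :=
          LinearEquiv.apply_symm_apply (g : V ≃ₗ[F] V) w
        rw [h5, map_neg, tW w hw, neg_neg]
      · have h4 := pWs g⁻¹ (P0.inv_mem hg) w hw
        change t ((g : V ≃ₗ[F] V) ((((t'⁻¹ : ↥(E Q))) : V ≃ₗ[F] V) ((((g⁻¹ : ↥(E Q))) : V ≃ₗ[F] V) w))) - w ∈ W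
        rw [tinv]
        have h5 : (g : V ≃ₗ[F] V) ((((g⁻¹ : ↥(E Q))) : V ≃ₗ[F] V) w) = w :=
          LinearEquiv.apply_symm_apply (g : V ≃ₗ[F] V) w
        have h6 := tperp _ h4
        have h7 := pW g hg _ h6
        rw [map_sub, h5] at h7
        have h8 := tW _ h7
        have h9 := tperp w hw
        have e : t ((g : V ≃ₗ[F] V) (t ((((g⁻¹ : ↥(E Q))) : V ≃ₗ[F] V) w))) - w =
            t ((g : V ≃ₗ[F] V) (t ((((g⁻¹ : ↥(E Q))) : V ≃ₗ[F] V) w)) - w) + (t w - w) := by
          rw [map_sub]; abel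
        rw [e, h8]
        exact W.add_mem (W.neg_mem h7) h9
    have h4 := P0.mul_mem (hU h3) hg
    rwa [inv_mul_cancel_right] at h4
  -- in `P Q`
  have hsurj : Function.Surjective (QuotientGroup.mk' (Subgroup.center ↥(E Q))) := QuotientGroup.mk'_surjective _
  refine ⟨P0.mapSurjective hsurj, (t' : P Q), ?_, ?_⟩
  · have key : ∀ z ∈ (P0.mapSurjective hsurj : Subgroup (P Q)), (t' : P Q) * z * (t' : P Q)⁻¹ ∈
        (P0.mapSurjective hsurj : Subgroup (P Q)) := by
      rintro _ ⟨g, hg, rfl⟩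
      exact ⟨t' * g * t'⁻¹, hconj g hg, rfl⟩
    have h3 : (t' : P Q)⁻¹ = (t' : P Q) := by
      rw [inv_eq_iff_mul_eq_one]
      have h4 : t' * t' = 1 := by
        apply Subtype.ext
        ext w
        exact tt w
      change ((t' * t' : ↥(E Q)) : P Q) = 1
      rw [h4]
      rfl
    rw [Subgroup.mem_normalizer_iff]
    intro z
    refine ⟨key z, fun hz => ?_⟩
    have h4 := key _ hz
    have e : (t' : P Q) * ((t' : P Q) * z * (t' : P Q)⁻¹) * (t' : P Q)⁻¹ = z := by
      nth_rewrite 1 [← h3]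
      nth_rewrite 4 [← h3]
      group
    rwa [e] at h4
  · rw [orderOf_eq_prime_iff]
    refine ⟨?_, ?_⟩
    · have h4 : t' * t' = 1 := by
        apply Subtype.ext
        ext w
        exact tt w
      rw [pow_two]
      change ((t' * t' : ↥(E Q)) : P Q) = 1
      rw [h4]
      rfl
    · intro h3
      rw [QuotientGroup.eq_one_iff] at h3
      obtain ⟨c, hc⟩ := center_scalar hG h3
      have h4 : -x = c • x := by rw [← tx]; exact hc x
      -- a vector fixed by `t`
      obtain ⟨w, hw0, -, hw⟩ := exists_sing_perp (Q := Q) ![x, y, u, v] (by have := hB.dim; omega)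
      have h5 : t w = w := by
        rw [ht, show polar Q x w = 0 from hw 0, show polar Q y w = 0 from hw 1, show polar Q u w = 0 from hw 2,
          show polar Q v w = 0 from hw 3]
        module
      have h6 : w = c • w := by rw [← hc w]; exact h5.symm
      have h7 : c = 1 := by
        have h8 : (1 - c) • w = 0 := by rw [sub_smul, one_smul, ← h6, sub_self]
        rcases smul_eq_zero.1 h8 with h9 | h9
        · exact (sub_eq_zero.1 h9).symm
        · exact (hw0 h9).elim
      rw [h7, one_smul] at h4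
      have h8 : (2 : F) • x = 0 := by
        rw [two_smul]
        nth_rewrite 1 [← h4]
        exact neg_add_cancel x
      rcases smul_eq_zero.1 h8 with h9 | h9
      · exact h2 h9
      · exact h.left_ne h9

end Cfsg.Agent.H22.IFO
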