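import Cfsg.Agent.H22.IFO.BT
import Cfsg.Agent.H22.IFO.Inv
import Cfsg.Agent.AutOrth.Main
import Cfsg.Agent.GenOrth.Normal
import Cfsg.Agent.KFacts.RgdFiltClass

/-!
# S5719, orthogonal groups, `|A|` odd: the case `r = p` (helper22)

`hasFilt_P` : `HasFilt p (P Q)` for every nondegenerate `Q` of dimension `≥ 7` over a finite field of
characteristic `p ≠ 2`;
`no_p` : (P), no condition on `Γ`.
-/

set_option autoImplicit false
set_option linter.unusedSectionVars false
set_option linter.unusedVariables false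

namespace Cfsg.Agent.H22.IFO

open QuadraticMap Cfsg.Agent.LieClassical.OrthCore Cfsg.Agent.LieClassical.OrthTrans
  Cfsg.Agent.LieClassical.OrthSimple Cfsg.Agent.LieClassical.OrthFinite Cfsg.Agent.LieClassical
  Cfsg.Agent.ClassicalGeometry.OrthAut1 Cfsg.Agent.ClassicalGeometry.OrthAutBasic Cfsg.Agent.H209.Fxy
  Cfsg.Agent.KFacts.RgdFilt Cfsg.Agent.KFacts.RgdFiltClass

section Sim

variable {F V V' : Type*} [Field F] [AddCommGroup V] [Module F V] [AddCommGroup V'] [Module F V']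
  {Q : QuadraticForm F V} {Q' : QuadraticForm F V'} {T : V' ≃ₗ[F] V} {e : F}

/-- conjugation by `T` -/
def cT (T : V' ≃ₗ[F] V) : (V' ≃ₗ[F] V') ≃* (V ≃ₗ[F] V) where
  toFun h := (T.symm.trans h).trans T
  invFun h := (T.trans h).trans T.symm
  left_inv h := by ext v; simp
  right_inv h := by ext v; simp
  map_mul' h k := by
    ext v
    change T ((h * k) (T.symm v)) = T (h (T.symm (T (k (T.symm v)))))
    rw [LinearEquiv.symm_apply_apply]
    rfl

theorem cT_apply (T : V' ≃ₗ[F] V) (h : V' ≃ₗ[F] V') (v : V') : cT T h (T v) = T (h v) := by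
  change T (h (T.symm (T v))) = T (h v)
  rw [LinearEquiv.symm_apply_apply]

theorem polar_sim (hT : ∀ v, Q (T v) = e * Q' v) (v w : V') : polar Q (T v) (T w) = e * polar Q' v w := by
  simp only [polar, ← map_add, hT]
  ring

theorem cT_siegel (he : e ≠ 0) (hT : ∀ v, Q (T v) = e * Q' v) {u w : V'} (hu : Q' u = 0) (hw : polar Q' u w = 0) :
    ∃ (hu' : Q (T u) = 0) (hw' : polar Q (T u) (e⁻¹ • T w) = 0),
      cT T (siegel Q' u w hu hw) = siegel Q (T u) (e⁻¹ • T w) hu' hw' := by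
  have hu' : Q (T u) = 0 := by rw [hT, hu, mul_zero]
  have hw' : polar Q (T u) (e⁻¹ • T w) = 0 := by
    rw [polar_smul_right, polar_sim hT, hw, mul_zero, smul_zero]
  refine ⟨hu', hw', ?_⟩
  ext v
  obtain ⟨v, rfl⟩ := T.surjective v
  rw [cT_apply, siegel_apply, siegel_apply, map_sub, map_sub, map_add, map_smul, map_smul, map_smul,
    QuadraticMap.map_smul, hT, polar_smul_left, polar_sim hT, polar_sim hT, smul_smul]
  have e1 : e * polar Q' u v * e⁻¹ = polar Q' u v := by field_simp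
  have e2 : e⁻¹ • (e * polar Q' w v) = polar Q' w v := by rw [smul_eq_mul]; field_simp
  have e3 : (e⁻¹ * e⁻¹) • (e * Q' w) * (e * polar Q' u v) = Q' w * polar Q' u v := by
    rw [smul_eq_mul]; field_simp
  rw [e1, e2, e3]

theorem cT_mem_E (he : e ≠ 0) (hT : ∀ v, Q (T v) = e * Q' v) {h : V' ≃ₗ[F] V'} (hh : h ∈ E Q') : cT T h ∈ E Q := by
  have h1 : E Q' ≤ (E Q).comap (cT T).toMonoidHom := by
    rw [E, Subgroup.closure_le]
    rintro _ ⟨u, w, hu, hw, rfl⟩
    obtain ⟨hu', hw', h2⟩ := cT_siegel he hT hu hw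
    change cT T _ ∈ E Q
    rw [h2]
    exact siegel_mem_E hu' hw'
  exact h1 hh

theorem symm_form (he : e ≠ 0) (hT : ∀ v, Q (T v) = e * Q' v) (v : V) : Q' (T.symm v) = e⁻¹ * Q v := by
  have := hT (T.symm v)
  rw [LinearEquiv.apply_symm_apply] at this
  rw [this, inv_mul_cancel_left₀ he]

/-- Conjugation by `T`. -/
def sE (he : e ≠ 0) (hT : ∀ v, Q (T v) = e * Q' v) : ↥(E Q') ≃* ↥(E Q) where
  toFun h := ⟨cT T h.1, cT_mem_E he hT h.2⟩
  invFun h := ⟨cT T.symm h.1, cT_mem_E (inv_ne_zero he) (symm_form he hT) h.2⟩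
  left_inv h := Subtype.ext ((cT T).symm_apply_apply h.1)
  right_inv h := Subtype.ext ((cT T).apply_symm_apply h.1)
  map_mul' h k := Subtype.ext (map_mul (cT T) h.1 k.1)

end Sim

variable {F V : Type*} [Field F] [AddCommGroup V] [Module F V] {Q : QuadraticForm F V}

theorem finite_PO {F : Type*} [Field F] [Finite F] {ι : Type} [Fintype ι] [DecidableEq ι] (q : (ι → F) → F) :
    Finite (Cfsg.POmega F q) := Quotient.finite _

theorem hasFilt_P_of_sim [Finite F] {ι : Type} [Fintype ι] [DecidableEq ι] {q : QuadraticForm F (ι → F)}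
    (hq : Good q) {c : F} (hc : c ≠ 0) (j : (ι → F) ≃ₗ[F] V) (hj : ∀ x, Q (j x) = c * q x) {p : ℕ}
    (hF : HasFilt p (Cfsg.POmega F ⇑q)) : HasFilt p (P Q) := by
  have := finite_PO (⇑q)
  exact hF.of_equiv ((AutOrth.Main.pe hq).trans (quotientCenterCongr (sE hc hj)))

/-- the odd standard form is degenerate in characteristic two -/
theorem two_ne_of_sim' (hQ : Nondeg Q) {k : ℕ} (h : GenOrth.Sim Q (Cfsg.quadFormOdd k F)) : (2 : F) ≠ 0 := by
  intro h2
  obtain ⟨c, hc, j, hj⟩ := h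
  have h1 : j (Pi.single (.inl ()) 1) = 0 := by
    apply hQ
    intro y
    obtain ⟨x, rfl⟩ := j.surjective y
    rw [QuadraticMap.polar, ← map_add, hj, hj, hj]
    have h3 : Cfsg.quadFormOdd k F (Pi.single (.inl ()) 1 + x) = Cfsg.quadFormOdd k F (Pi.single (.inl ()) 1) +
        Cfsg.quadFormOdd k F x := by
      rw [LieClassical.OrthForms.quadFormOdd_apply, LieClassical.OrthForms.quadFormOdd_apply,
        LieClassical.OrthForms.quadFormOdd_apply]
      simp
      linear_combination x (.inl ()) * h2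
    rw [h3]
    ring
  have h5 : (Pi.single (.inl ()) 1 : Unit ⊕ (Fin k ⊕ Fin k) → F) = 0 := (map_eq_zero_iff j j.injective).1 h1
  have h6 := congrFun h5 (.inl ())
  simp at h6

/-- `P Q` has a filtered root group datum. -/
theorem hasFilt_P [Finite F] (hQ : Nondeg Q) (h7 : 7 ≤ Module.finrank F V) {p : ℕ} [Fact p.Prime] [CharP F p] :
    HasFilt p (P Q) := by
  have hfd : Module.Finite F V := Module.finite_of_finrank_pos (by omega)
  rcases GenOrth.normal_form (Module.finrank F V) hQ rfl with ⟨k, hk, hs⟩ | ⟨k, hk, hs⟩ | ⟨k, hk, a, b, hab, hs⟩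
  · have h2 := two_ne_of_sim' hQ hs
    obtain ⟨c, hc, j, hj⟩ := hs
    have hG : Good (OrthForms.oddForm k F) := by
      apply good_of_finite (OrthForms.nondeg_oddForm k F h2)
      rw [Module.finrank_fintype_fun_eq_card, Fintype.card_sum, Fintype.card_sum, Fintype.card_fin,
        Fintype.card_unit]
      omega
    refine hasFilt_P_of_sim hG hc j (by rw [OrthForms.coe_oddForm]; exact hj) ?_
    rw [OrthForms.coe_oddForm]
    exact hasFilt_PO_odd h2 (by omega)
  · obtain ⟨c, hc, j, hj⟩ := hs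
    obtain ⟨n, rfl⟩ : ∃ n, k = n + 3 := ⟨k - 3, by omega⟩
    have hG : Good (OrthForms.plusForm (n + 3) F) := by
      apply good_of_finite (OrthForms.nondeg_plusForm (n + 3) F)
      rw [Module.finrank_fintype_fun_eq_card, Fintype.card_sum, Fintype.card_fin]
      omega
    refine hasFilt_P_of_sim hG hc j (by rw [OrthForms.coe_plusForm]; exact hj) ?_
    rw [OrthForms.coe_plusForm]
    exact hasFilt_PO_plus n
  · obtain ⟨c, hc, j, hj⟩ := hs
    have hG : Good (OrthForms.minusForm k F a b) := by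
      apply good_of_finite (OrthForms.nondeg_minusForm k F a b hab)
      rw [Module.finrank_fintype_fun_eq_card, Fintype.card_sum, Fintype.card_sum, Fintype.card_fin,
        Fintype.card_fin]
      omega
    refine hasFilt_P_of_sim hG hc j (by rw [OrthForms.coe_minusForm]; exact hj) ?_
    rw [OrthForms.coe_minusForm]
    exact hasFilt_PO_minus a b hab (by omega)

/-- **(P)** : `r = p`. -/
theorem no_p [Finite F] (hG : Good Q) {A : Subgroup (P Q)} {Γ : Subgroup (MulAut (P Q))} (h : IF A Γ)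
    (hodd : Odd (Nat.card A)) {r : ℕ} {R : Subgroup (P Q)} (hr : r.Prime) (hr2 : r ≠ 2) (hRA : R ≤ A) (hR : R ≠ ⊥)
    (hpow : ∀ x ∈ R, x ^ r = 1) (hcomm : ∀ x ∈ R, ∀ y ∈ R, x * y = y * x) (hinv : ∀ σ ∈ Γ, ∀ x ∈ R, σ x ∈ R)
    (h2 : (2 : F) ≠ 0) (h7 : 7 ≤ Module.finrank F V) (hrF : (r : F) = 0) : False := by
  have : Fact r.Prime := ⟨hr⟩
  have hfd : Module.Finite F V := Module.finite_of_finrank_pos (by omega)
  have hP : Finite (P Q) := Cfsg.Agent.ClassicalGeometry.OrthAut2b.finite_P (F := F) (V := V)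
  have := good_isSimpleGroup hG
  have hch : CharP F r := by
    obtain ⟨p, hp⟩ := CharP.exists F
    have h3 : p ∣ r := (CharP.cast_eq_zero_iff F p r).1 hrF
    rcases (Nat.dvd_prime hr).1 h3 with h4 | h4
    · subst h4
      exact absurd hp (CharP.char_ne_one F 1 ∘ fun _ => rfl)
    · rwa [h4] at hp
  have hRp : IsPGroup r R := by
    intro x
    exact ⟨1, Subtype.ext (by rw [pow_one]; exact hpow x x.2)⟩
  obtain ⟨S, hS⟩ := exists_normalizer_le h (hasFilt_P hG.nondeg h7) hRA hR hRp hinv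
  obtain ⟨S', t, ht, ht2⟩ := exists_sylow_inv (Q := Q) (p := r) ⟨hG.nondeg, h7⟩ h2
  obtain ⟨g, hg⟩ := MulAction.exists_smul_eq (P Q) S' S
  have h3 : g * t * g⁻¹ ∈ A := by
    apply hS
    rw [← hg]
    rw [Subgroup.mem_normalizer_iff] at ht ⊢
    intro z
    have h4 : ∀ z : P Q, z ∈ ((g • S' : Sylow r (P Q)) : Subgroup (P Q)) ↔ g⁻¹ * z * g ∈ (S' : Subgroup (P Q)) := by
      intro z
      rw [Sylow.coe_subgroup_smul, Subgroup.mem_pointwise_smul_iff_inv_smul_mem, ← map_inv]
      simp only [MulAut.smul_def, MulAut.conj_apply, inv_inv]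
    rw [h4, h4, ht]
    have e1 : t * (g⁻¹ * z * g) * t⁻¹ = g⁻¹ * (g * t * g⁻¹ * z * (g * t * g⁻¹)⁻¹) * g := by group
    rw [e1]
  have h5 : orderOf (g * t * g⁻¹) = 2 := by
    rw [← ht2]
    exact orderOf_injective (MulAut.conj g).toMonoidHom (MulAut.conj g).injective t
  have h6 : orderOf (g * t * g⁻¹) ∣ Nat.card A := by
    rw [show orderOf (g * t * g⁻¹) = orderOf (⟨g * t * g⁻¹, h3⟩ : A) from (Subgroup.orderOf_mk _ h3).symm]
    exact orderOf_dvd_natCard _
  rw [h5] at h6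
  exact (Nat.not_even_iff_odd.2 hodd) (even_iff_two_dvd.2 h6)

end Cfsg.Agent.H22.IFO
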